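import Groth.Agent.Lib.Helper18.IM.PlaneLocal
import Groth.Agent.Lib.Helper18.FF.Semilocal
import Groth.Agent.Lib.Helper18.FF.AdjFin2

/-! # The conductor of the local ring of a plane curve at a finite point (helper18) -/

set_option autoImplicit false
set_option linter.style.haveILetI false

namespace Groth.Agent.Lib.Helper18.IM

open FunFld WithZero Groth.Agent.Lib.Helper18.FF MvPolynomial

universe u v

variable {k : Type u} {K : Type v} [Field k] [Field K] [Algebra k K]

theorem plane_zero_max {x y : K} {c : Fin 2 → k} (R : Place k K)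
    (hR : ∀ i, R.1 (![x, y] i - algebraMap k K (c i)) < 1) (i : Fin 3) :
    R.1 (![(1 : K), x, y] i) ≤ R.1 (![(1 : K), x, y] 0) := by
  show R.1 (![(1 : K), x, y] i) ≤ R.1 (1 : K)
  rw [map_one]
  fin_cases i
  · show R.1 (1 : K) ≤ 1
    rw [map_one]
  · exact val_coord_le_one R hR 0
  · exact val_coord_le_one R hR 1

/-- The conductor statement when one coordinate already generates the function field. -/
theorem conductor_line (hK : IsFunctionField k K) (x y : K) (P : Place k K) (c : Fin 2 → k)
    (hP : ∀ i, P.1 (![x, y] i - algebraMap k K (c i)) < 1) (i : Fin 2)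
    (hw : IntermediateField.adjoin k ({![x, y] i} : Set K) = ⊤) :
    ∀ z : K, (∀ Q : Place k K, (∀ i, Q.1 (![x, y] i - algebraMap k K (c i)) < 1) → Q.1 z ≤ 1) →
      ∃ s a : MvPolynomial (Fin 2) k, P.1 (aeval ![x, y] s) = 1 ∧
        (1 : K) * aeval ![x, y] s * z = aeval ![x, y] a := by
  intro z hz
  have hw0 : ![x, y] i - algebraMap k K (c i) ≠ 0 := by
    intro h0
    obtain ⟨t, ht, -⟩ := hK.1
    have hmem : t ∈ IntermediateField.adjoin k ({![x, y] i} : Set K) := by
      rw [hw]
      trivial
    have hbot : IntermediateField.adjoin k ({![x, y] i} : Set K) = ⊥ := by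
      rw [IntermediateField.adjoin_eq_bot_iff]
      rintro z' rfl
      rw [sub_eq_zero] at h0
      exact ⟨c i, h0.symm⟩
    rw [hbot, IntermediateField.mem_bot] at hmem
    obtain ⟨a, rfl⟩ := hmem
    exact ht (isAlgebraic_algebraMap a)
  have hzmem : z ∈ IntermediateField.adjoin k ({![x, y] i} : Set K) := by
    rw [hw]
    trivial
  obtain ⟨p, q, hq, hpq⟩ := exists_fraction_of_val_le_one P (hP i) hw0 hzmem (hz P hP)
  have hev : ∀ r : Polynomial k,
      aeval ![x, y] (Polynomial.aeval (X i : MvPolynomial (Fin 2) k) r) =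
      Polynomial.aeval (![x, y] i) r := by
    intro r
    rw [← Polynomial.aeval_algHom_apply, aeval_X]
  refine ⟨Polynomial.aeval (X i : MvPolynomial (Fin 2) k) q,
    Polynomial.aeval (X i : MvPolynomial (Fin 2) k) p, ?_, ?_⟩
  · rw [hev]
    exact hq
  · rw [hev, hev, one_mul]
    exact hpq

/-- **The conductor of the local ring of a plane curve at a finite point.** -/
theorem conductor_plane [IsAlgClosed k] (hK : IsFunctionField k K) (x y : K)
    (hxy : IntermediateField.adjoin k ({x, y} : Set K) = ⊤) (P : Place k K) (c : Fin 2 → k)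
    (hP : ∀ i, P.1 (![x, y] i - algebraMap k K (c i)) < 1) :
    ∃ t : K, t ≠ 0 ∧ (∃ a₀ : MvPolynomial (Fin 2) k, aeval ![x, y] a₀ = t) ∧
      ∀ z : K, (∀ Q : Place k K, (∀ i, Q.1 (![x, y] i - algebraMap k K (c i)) < 1) → Q.1 z ≤ 1) →
        ∃ s a : MvPolynomial (Fin 2) k, P.1 (aeval ![x, y] s) = 1 ∧
          t * aeval ![x, y] s * z = aeval ![x, y] a := by
  classical
  by_cases hli : LinearIndependent k ![(1 : K), x, y]
  · have hbir : IntermediateField.adjoin k
        (Set.range fun i => ![(1 : K), x, y] i / ![(1 : K), x, y] 0) = ⊤ := by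
      rw [eq_top_iff, ← hxy]
      apply IntermediateField.adjoin.mono
      rintro z (rfl | rfl)
      · exact ⟨1, by simp⟩
      · exact ⟨2, by simp⟩
    obtain ⟨f₀, hf₀A, hf₀0, hcond⟩ :=
      conductor_chart hK (n := 2) (by norm_num) ![(1 : K), x, y] hli hbir 0
    have hAle : ∀ a ∈ Algebra.adjoin k
        (Set.range fun i => ![(1 : K), x, y] i / ![(1 : K), x, y] 0),
        ∃ a₀ : MvPolynomial (Fin 2) k, aeval ![x, y] a₀ = a := by
      have hle : Algebra.adjoin k
          (Set.range fun i => ![(1 : K), x, y] i / ![(1 : K), x, y] 0) ≤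
          (aeval ![x, y] : MvPolynomial (Fin 2) k →ₐ[k] K).range := by
        apply Algebra.adjoin_le
        rintro _ ⟨i, rfl⟩
        fin_cases i
        · exact ⟨1, by simp⟩
        · exact ⟨X 0, by simp⟩
        · exact ⟨X 1, by simp⟩
      intro a ha
      exact hle ha
    refine ⟨f₀, hf₀0, hAle f₀ hf₀A, fun z hz => ?_⟩
    obtain ⟨σ, hσA, hσP, hmem⟩ := hcond P (plane_zero_max P hP) z
      (fun Q hQ => hz Q ((sameImage_plane_iff x y c P Q hP).mp hQ))
    obtain ⟨s, hs⟩ := hAle σ hσA
    obtain ⟨a, ha⟩ := hAle _ hmem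
    exact ⟨s, a, hs ▸ hσP, by rw [hs, ha]⟩
  · obtain ⟨g, hsum, i₀, hi₀⟩ := Fintype.not_linearIndependent_iff.mp hli
    rw [Fin.sum_univ_three] at hsum
    have hsum' : g 0 • (1 : K) + g 1 • x + g 2 • y = 0 := hsum
    by_cases h2 : g 2 = 0
    · by_cases h1 : g 1 = 0
      · exfalso
        rw [h1, h2, zero_smul, zero_smul, add_zero, add_zero, Algebra.smul_def, mul_one] at hsum'
        have h0 : g 0 = 0 := (map_eq_zero _).mp hsum'
        fin_cases i₀
        · exact hi₀ h0
        · exact hi₀ h1
        · exact hi₀ h2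
      · -- `x` is constant, `y` generates
        have hx : x = algebraMap k K (-(g 1)⁻¹ * g 0) := by
          rw [h2, zero_smul, add_zero, Algebra.smul_def, Algebra.smul_def, mul_one] at hsum'
          have hg1 : algebraMap k K (g 1) ≠ 0 := (map_ne_zero _).mpr h1
          rw [map_mul, map_neg, map_inv₀]
          field_simp
          linear_combination hsum'
        have hw : IntermediateField.adjoin k ({![x, y] 1} : Set K) = ⊤ := by
          rw [eq_top_iff, ← hxy, IntermediateField.adjoin_le_iff]
          rintro z (rfl | rfl)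
          · rw [hx]
            exact IntermediateField.algebraMap_mem _ _
          · exact IntermediateField.subset_adjoin k _ rfl
        exact ⟨1, one_ne_zero, ⟨1, map_one _⟩, conductor_line hK x y P c hP 1 hw⟩
    · -- `y` is a polynomial in `x`
      have hy : y = algebraMap k K (-(g 2)⁻¹ * g 0) + algebraMap k K (-(g 2)⁻¹ * g 1) * x := by
        rw [Algebra.smul_def, Algebra.smul_def, Algebra.smul_def, mul_one] at hsum'
        have hg2 : algebraMap k K (g 2) ≠ 0 := (map_ne_zero _).mpr h2
        rw [map_mul, map_mul, map_neg, map_inv₀]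
        field_simp
        linear_combination hsum'
      have hw : IntermediateField.adjoin k ({![x, y] 0} : Set K) = ⊤ := by
        rw [eq_top_iff, ← hxy, IntermediateField.adjoin_le_iff]
        have hxm : x ∈ IntermediateField.adjoin k ({![x, y] 0} : Set K) :=
          IntermediateField.subset_adjoin k _ rfl
        rintro z (rfl | rfl)
        · exact hxm
        · rw [hy]
          exact add_mem (IntermediateField.algebraMap_mem _ _)
            (mul_mem (IntermediateField.algebraMap_mem _ _) hxm)
      exact ⟨1, one_ne_zero, ⟨1, map_one _⟩, conductor_line hK x y P c hP 0 hw⟩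

end Groth.Agent.Lib.Helper18.IM
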