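import Mathlib.LinearAlgebra.Dimension.RankNullity
import Mathlib.LinearAlgebra.Dimension.DivisionRing
import Mathlib.LinearAlgebra.Dimension.FreeAndStrongRankCondition
import Mathlib.LinearAlgebra.Quotient.Basic
import Mathlib.LinearAlgebra.Isomorphisms
import Mathlib.SetTheory.Cardinal.Arithmetic

/-! # Relative dimensions of nested subspaces (helper18) -/

set_option autoImplicit false

namespace Groth.Agent.Lib.Helper18.IM

open Cardinal

variable {k V : Type*} [Field k] [AddCommGroup V] [Module k V]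

/-- Additivity of relative dimensions along a chain `S ≤ T ≤ U`. -/
theorem rank_map_mkQ_add (S T U : Submodule k V) (hST : S ≤ T) (hTU : T ≤ U) :
    Module.rank k ↥(U.map S.mkQ) =
      Module.rank k ↥(U.map T.mkQ) + Module.rank k ↥(T.map S.mkQ) := by
  let π : (V ⧸ S) →ₗ[k] (V ⧸ T) := S.liftQ T.mkQ (by rw [Submodule.ker_mkQ]; exact hST)
  have hπ : π ∘ₗ S.mkQ = T.mkQ := Submodule.liftQ_mkQ S T.mkQ _
  have hker : LinearMap.ker π = T.map S.mkQ := by
    rw [Submodule.ker_liftQ, Submodule.ker_mkQ]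
  let π' : ↥(U.map S.mkQ) →ₗ[k] (V ⧸ T) := π.domRestrict (U.map S.mkQ)
  have hrange : LinearMap.range π' = U.map T.mkQ := by
    rw [LinearMap.range_domRestrict, ← Submodule.map_comp, hπ]
  have hker' : LinearMap.ker π' = (T.map S.mkQ).comap (U.map S.mkQ).subtype := by
    rw [LinearMap.ker_domRestrict, hker]
  have h := LinearMap.rank_range_add_rank_ker π'
  rw [hrange, hker'] at h
  have hle : T.map S.mkQ ≤ U.map S.mkQ := Submodule.map_mono hTU
  rw [← h, (Submodule.comapSubtypeEquivOfLe hle).rank_eq]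

/-- **Conductor argument.** If `O ≤ Õ` has finite codimension and `m` is an automorphism of the
ambient space preserving both, then `O / m O` and `Õ / m Õ` have the same dimension. -/
theorem rank_quot_eq_of_finite_codim (O Ot : Submodule k V) (m : V ≃ₗ[k] V) (hO : O ≤ Ot)
    (hmO : O.map (m : V →ₗ[k] V) ≤ O) (hmOt : Ot.map (m : V →ₗ[k] V) ≤ Ot)
    (hfin : Module.rank k ↥(Ot.map O.mkQ) < ℵ₀) :
    Module.rank k ↥(O.map (O.map (m : V →ₗ[k] V)).mkQ) =
      Module.rank k ↥(Ot.map (Ot.map (m : V →ₗ[k] V)).mkQ) := by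
  have hGG : O.map (m : V →ₗ[k] V) ≤ Ot.map (m : V →ₗ[k] V) := Submodule.map_mono hO
  have h1 := rank_map_mkQ_add (O.map (m : V →ₗ[k] V)) O Ot hmO hO
  have h2 := rank_map_mkQ_add (O.map (m : V →ₗ[k] V)) (Ot.map (m : V →ₗ[k] V)) Ot hGG hmOt
  have h3 : Module.rank k ↥((Ot.map (m : V →ₗ[k] V)).map (O.map (m : V →ₗ[k] V)).mkQ) =
      Module.rank k ↥(Ot.map O.mkQ) := by
    let e : (V ⧸ O) ≃ₗ[k] (V ⧸ O.map (m : V →ₗ[k] V)) :=
      Submodule.Quotient.equiv O (O.map (m : V →ₗ[k] V)) m rfl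
    have he : (e : (V ⧸ O) →ₗ[k] _) ∘ₗ O.mkQ =
        (O.map (m : V →ₗ[k] V)).mkQ ∘ₗ (m : V →ₗ[k] V) := by
      ext v
      rfl
    have hmap : (Ot.map O.mkQ).map (e : (V ⧸ O) →ₗ[k] _) =
        (Ot.map (m : V →ₗ[k] V)).map (O.map (m : V →ₗ[k] V)).mkQ := by
      rw [← Submodule.map_comp, he, Submodule.map_comp]
    rw [← hmap]
    exact LinearEquiv.rank_map_eq e _
  rw [h3] at h2
  have h4 : Module.rank k ↥(Ot.map O.mkQ) + Module.rank k ↥(O.map (O.map (m : V →ₗ[k] V)).mkQ) =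
      Module.rank k ↥(Ot.map O.mkQ) +
        Module.rank k ↥(Ot.map (Ot.map (m : V →ₗ[k] V)).mkQ) := by
    rw [← h1, h2, add_comm]
  exact Cardinal.eq_of_add_eq_add_left h4 hfin

end Groth.Agent.Lib.Helper18.IM
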