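import Groth.Agent.Lib.Helper18.IM.Conductor
import Mathlib.RingTheory.Localization.AtPrime.Basic
import Mathlib.RingTheory.Localization.Ideal

/-! # Intersection multiplicity on a plane curve equals the colength in the local ring of the plane
(helper18) -/

set_option autoImplicit false
set_option linter.style.haveILetI false

namespace Groth.Agent.Lib.Helper18.IM

open FunFld WithZero Groth.Agent.Lib.Helper18.FF MvPolynomial Cardinal

universe u v

variable {k : Type u} {K : Type v} [Field k] [Field K] [Algebra k K]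

/-- Multiplication by a nonzero element as a linear automorphism. -/
def mulEquiv (G : K) (hG : G ≠ 0) : K ≃ₗ[k] K where
  toFun z := G * z
  map_add' := mul_add G
  map_smul' c z := by simp [mul_smul_comm]
  invFun z := G⁻¹ * z
  left_inv z := by simp [← mul_assoc, inv_mul_cancel₀ hG]
  right_inv z := by simp [← mul_assoc, mul_inv_cancel₀ hG]

@[simp] theorem mulEquiv_apply (G : K) (hG : G ≠ 0) (z : K) :
    (mulEquiv (k := k) G hG : K →ₗ[k] K) z = G * z := rfl

/-- A principal ideal of the semilocal ring is an order ideal. -/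
theorem map_mul_valIdeal (S₀ : Finset (Place k K)) {G : K} (hG : G ≠ 0)
    (hGS : ∀ Q ∈ S₀, Q.1 G ≤ 1) :
    (valIdeal S₀ (fun _ => 0)).map (mulEquiv (k := k) G hG : K →ₗ[k] K) =
      valIdeal S₀ (fun Q => (Q.ord G).toNat) := by
  have hord : ∀ Q ∈ S₀, (((Q.ord G).toNat : ℕ) : ℤ) = Q.ord G := fun Q hQ =>
    Int.toNat_of_nonneg ((val_le_one_iff_ord_nonneg Q hG).mp (hGS Q hQ))
  ext z
  constructor
  · rintro ⟨w, hw, rfl⟩ Q hQ
    rw [mulEquiv_apply, map_mul, hord Q hQ, ← val_eq_exp_neg_ord Q hG]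
    have h1 := hw Q hQ
    simp only [Nat.cast_zero, neg_zero, exp_zero] at h1
    calc Q.1 G * Q.1 w ≤ Q.1 G * 1 := mul_le_mul' le_rfl h1
      _ = Q.1 G := mul_one _
  · intro hz
    refine ⟨G⁻¹ * z, fun Q hQ => ?_, ?_⟩
    · simp only [Nat.cast_zero, neg_zero, exp_zero]
      have h1 := hz Q hQ
      rw [hord Q hQ, ← val_eq_exp_neg_ord Q hG] at h1
      have hvG : Q.1 G ≠ 0 := (Valuation.ne_zero_iff _).mpr hG
      rw [map_mul, map_inv₀, inv_mul_le_iff₀ (zero_lt_iff.mpr hvG), mul_one]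
      exact h1
    · rw [mulEquiv_apply, ← mul_assoc, mul_inv_cancel₀ hG, one_mul]

/-- **Intersection multiplicity as a colength.** -/
theorem intersectionMult_eq_finrank [IsAlgClosed k] (hK : IsFunctionField k K) (x y : K)
    (hxy : IntermediateField.adjoin k ({x, y} : Set K) = ⊤) (f g : MvPolynomial (Fin 2) k)
    (hf : Irreducible f) (hfxy : aeval ![x, y] f = 0)
    (hgxy : aeval ![x, y] g ≠ 0) (P : Place k K) (c : Fin 2 → k)
    (hc : ∀ i, P.1 (![x, y] i - algebraMap k K (c i)) < 1)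
    (M : Ideal (MvPolynomial (Fin 2) k)) [M.IsMaximal]
    (hM : M = Ideal.span {X 0 - C (c 0), X 1 - C (c 1)}) :
    ∑ᶠ Q ∈ {Q : Place k K | SameImage ![(1 : K), x, y] P Q}, Q.ord (aeval ![x, y] g) =
      (Module.finrank k (Localization.AtPrime M ⧸
        Ideal.map (algebraMap (MvPolynomial (Fin 2) k) (Localization.AtPrime M))
          (Ideal.span {f, g})) : ℤ) := by
  classical
  have hMmem := mem_pointIdeal_iff c M hM
  have hfinS := finite_fibre hK x y hxy c
  obtain ⟨S₀, hS₀⟩ : ∃ S₀ : Finset (Place k K),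
      ∀ Q, Q ∈ S₀ ↔ ∀ i, Q.1 (![x, y] i - algebraMap k K (c i)) < 1 :=
    ⟨hfinS.toFinset, fun Q => hfinS.mem_toFinset⟩
  have hPS : P ∈ S₀ := (hS₀ P).mpr hc
  -- the evaluation map on the local ring
  have hunit : ∀ s : M.primeCompl,
      IsUnit (aeval ![x, y] (s : MvPolynomial (Fin 2) k) : K) := by
    intro s
    have hs : eval c (s : MvPolynomial (Fin 2) k) ≠ 0 := fun h => s.2 ((hMmem _).mpr h)
    have h1 := val_aeval_eq_one P hc hs
    refine isUnit_iff_ne_zero.mpr fun h0 => ?_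
    rw [h0, map_zero] at h1
    exact zero_ne_one h1
  let θ : Localization.AtPrime M →ₐ[k] K :=
    IsLocalization.liftAlgHom (M := M.primeCompl)
      (f := (aeval ![x, y] : MvPolynomial (Fin 2) k →ₐ[k] K)) hunit
  have hθalg : ∀ a : MvPolynomial (Fin 2) k,
      θ (algebraMap _ (Localization.AtPrime M) a) = aeval ![x, y] a := fun a =>
    IsLocalization.lift_eq _ a
  have hfrac : ∀ w : Localization.AtPrime M, ∃ (a : MvPolynomial (Fin 2) k) (s : M.primeCompl),
      w * algebraMap _ (Localization.AtPrime M) (s : MvPolynomial (Fin 2) k) =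
        algebraMap _ (Localization.AtPrime M) a := by
    intro w
    obtain ⟨⟨a, s⟩, h⟩ := IsLocalization.surj M.primeCompl w
    exact ⟨a, s, h⟩
  have hθfrac : ∀ (w : Localization.AtPrime M) (a : MvPolynomial (Fin 2) k) (s : M.primeCompl),
      w * algebraMap _ (Localization.AtPrime M) (s : MvPolynomial (Fin 2) k) =
        algebraMap _ (Localization.AtPrime M) a →
      θ w * aeval ![x, y] (s : MvPolynomial (Fin 2) k) = aeval ![x, y] a := by
    intro w a s h
    rw [← hθalg, ← hθalg, ← map_mul, h]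
  have hkerθ : ∀ w : Localization.AtPrime M, θ w = 0 →
      w ∈ Ideal.map (algebraMap (MvPolynomial (Fin 2) k) (Localization.AtPrime M))
        (Ideal.span {f}) := by
    intro w hw
    obtain ⟨a, s, h⟩ := hfrac w
    have h1 := hθfrac w a s h
    rw [hw, zero_mul] at h1
    obtain ⟨q, rfl⟩ := dvd_of_aeval_eq_zero hK x y hxy hf hfxy h1.symm
    obtain ⟨us, hus⟩ := IsLocalization.map_units (Localization.AtPrime M) s
    rw [← hus, map_mul] at h
    have h2 : w = algebraMap _ (Localization.AtPrime M) f *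
        (algebraMap _ (Localization.AtPrime M) q * ↑us⁻¹) := by
      rw [← mul_assoc, ← h, mul_assoc, Units.mul_inv, mul_one]
    rw [h2]
    exact Ideal.mul_mem_right _ _ (Ideal.mem_map_of_mem _ (Ideal.subset_span rfl))
  -- the two rings
  obtain ⟨O, hOdef⟩ : ∃ O : Submodule k K, O = LinearMap.range θ.toLinearMap := ⟨_, rfl⟩
  obtain ⟨Ot, hOtdef⟩ : ∃ Ot : Submodule k K, Ot = valIdeal S₀ (fun _ => 0) := ⟨_, rfl⟩
  obtain ⟨G, hGdef⟩ : ∃ G : K, G = aeval ![x, y] g := ⟨_, rfl⟩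
  have hG : G ≠ 0 := hGdef ▸ hgxy
  have hGS : ∀ Q ∈ S₀, Q.1 G ≤ 1 := fun Q hQ => hGdef ▸ val_aeval_le_one Q ((hS₀ Q).mp hQ) g
  have hO : O ≤ Ot := by
    rw [hOdef, hOtdef]
    rintro _ ⟨w, rfl⟩ Q hQ
    simp only [Nat.cast_zero, neg_zero, exp_zero]
    obtain ⟨a, s, h⟩ := hfrac w
    have h1 := hθfrac w a s h
    have hs : eval c (s : MvPolynomial (Fin 2) k) ≠ 0 := fun h => s.2 ((hMmem _).mpr h)
    have h2 := val_aeval_eq_one Q ((hS₀ Q).mp hQ) hs
    have h3 : Q.1 (θ w) = Q.1 (aeval ![x, y] a) := by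
      rw [← h1, map_mul, h2, mul_one]
    show Q.1 (θ w) ≤ 1
    rw [h3]
    exact val_aeval_le_one Q ((hS₀ Q).mp hQ) a
  have hmO : O.map (mulEquiv (k := k) G hG : K →ₗ[k] K) ≤ O := by
    rw [hOdef]
    rintro _ ⟨_, ⟨w, rfl⟩, rfl⟩
    refine ⟨algebraMap _ (Localization.AtPrime M) g * w, ?_⟩
    show θ (algebraMap _ (Localization.AtPrime M) g * w) = G * θ w
    rw [map_mul, hθalg, hGdef]
  have hmOt : Ot.map (mulEquiv (k := k) G hG : K →ₗ[k] K) ≤ Ot := by
    rw [hOtdef, map_mul_valIdeal S₀ hG hGS]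
    exact valIdeal_mono fun _ _ => Nat.zero_le _
  -- the conductor
  obtain ⟨t, ht0, ⟨a₀, ha₀⟩, hcond⟩ := conductor_plane hK x y hxy P c hc
  have htS : ∀ Q ∈ S₀, Q.1 t ≤ 1 := fun Q hQ => ha₀ ▸ val_aeval_le_one Q ((hS₀ Q).mp hQ) a₀
  have htO : Ot.map (mulEquiv (k := k) t ht0 : K →ₗ[k] K) ≤ O := by
    rw [hOdef, hOtdef]
    rintro _ ⟨z, hz, rfl⟩
    obtain ⟨s, a, hsP, hsa⟩ := hcond z (fun Q hQ => by
      have := hz Q ((hS₀ Q).mpr hQ)
      simpa using this)
    have hs : s ∈ M.primeCompl := fun h =>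
      eval_ne_zero_of_val_eq_one P hc hsP ((hMmem s).mp h)
    refine ⟨IsLocalization.mk' (Localization.AtPrime M) a ⟨s, hs⟩, ?_⟩
    show θ (IsLocalization.mk' (Localization.AtPrime M) a ⟨s, hs⟩) = t * z
    show IsLocalization.lift hunit (IsLocalization.mk' (Localization.AtPrime M) a ⟨s, hs⟩) = t * z
    rw [IsLocalization.lift_mk'_spec]
    show aeval ![x, y] a = aeval ![x, y] s * (t * z)
    rw [← hsa]
    ring
  have hfin : Module.rank k ↥(Ot.map O.mkQ) < ℵ₀ := by
    have h1 := rank_map_mkQ_add (Ot.map (mulEquiv (k := k) t ht0 : K →ₗ[k] K)) O Ot htO hO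
    have h2 : Module.rank k ↥(Ot.map (Ot.map (mulEquiv (k := k) t ht0 : K →ₗ[k] K)).mkQ) =
        ((∑ Q ∈ S₀, (Q.ord t).toNat : ℕ) : Cardinal) := by
      rw [hOtdef, map_mul_valIdeal S₀ ht0 htS]
      exact rank_valIdeal hK S₀ _
    have h3 : Module.rank k ↥(Ot.map O.mkQ) ≤
        Module.rank k ↥(Ot.map (Ot.map (mulEquiv (k := k) t ht0 : K →ₗ[k] K)).mkQ) := by
      rw [h1]
      exact self_le_add_right _ _
    rw [h2] at h3
    exact lt_of_le_of_lt h3 (Cardinal.nat_lt_aleph0 _)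
  have hB := rank_quot_eq_of_finite_codim O Ot (mulEquiv (k := k) G hG) hO hmO hmOt hfin
  have hA : Module.rank k ↥(Ot.map (Ot.map (mulEquiv (k := k) G hG : K →ₗ[k] K)).mkQ) =
      ((∑ Q ∈ S₀, (Q.ord G).toNat : ℕ) : Cardinal) := by
    rw [hOtdef, map_mul_valIdeal S₀ hG hGS]
    exact rank_valIdeal hK S₀ _
  rw [hA] at hB
  -- the colength
  obtain ⟨I, hIdef⟩ : ∃ I : Ideal (Localization.AtPrime M),
      I = Ideal.map (algebraMap (MvPolynomial (Fin 2) k) (Localization.AtPrime M))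
        (Ideal.span {f, g}) := ⟨_, rfl⟩
  rw [← hIdef]
  let Θ : Localization.AtPrime M →ₗ[k] (K ⧸ O.map (mulEquiv (k := k) G hG : K →ₗ[k] K)) :=
    (O.map (mulEquiv (k := k) G hG : K →ₗ[k] K)).mkQ ∘ₗ θ.toLinearMap
  have hrange : LinearMap.range Θ = O.map (O.map (mulEquiv (k := k) G hG : K →ₗ[k] K)).mkQ := by
    rw [LinearMap.range_comp, hOdef]
  have hker : LinearMap.ker Θ = I.restrictScalars k := by
    ext w
    rw [LinearMap.mem_ker, Submodule.restrictScalars_mem]
    show (O.map (mulEquiv (k := k) G hG : K →ₗ[k] K)).mkQ (θ w) = 0 ↔ w ∈ I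
    rw [Submodule.mkQ_apply, Submodule.Quotient.mk_eq_zero, hOdef, hIdef]
    constructor
    · rintro ⟨_, ⟨w', rfl⟩, h⟩
      have h1 : θ (w - algebraMap _ (Localization.AtPrime M) g * w') = 0 := by
        rw [map_sub, map_mul, hθalg, ← hGdef]
        rw [← h]
        show θ w' |> fun z => G * z - G * z = 0
        simp
      have h2 := hkerθ _ h1
      have h3 : w = (w - algebraMap _ (Localization.AtPrime M) g * w') +
          algebraMap _ (Localization.AtPrime M) g * w' := by ring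
      rw [h3]
      refine Ideal.add_mem _ (Ideal.map_mono (Ideal.span_mono ?_) h2)
        (Ideal.mul_mem_right _ _ (Ideal.mem_map_of_mem _ (Ideal.subset_span ?_)))
      · intro z hz
        rw [Set.mem_singleton_iff] at hz
        rw [hz]
        exact Set.mem_insert _ _
      · exact Set.mem_insert_of_mem _ rfl
    · intro hw
      rw [Ideal.map_span, Set.image_pair, Ideal.mem_span_pair] at hw
      obtain ⟨a, b, rfl⟩ := hw
      refine ⟨θ b, ⟨b, rfl⟩, ?_⟩
      rw [mulEquiv_apply, map_add, map_mul, map_mul, hθalg, hθalg, hfxy, mul_zero, zero_add,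
        ← hGdef, mul_comm]
  have e1 : (Localization.AtPrime M ⧸ I) ≃ₗ[k] (Localization.AtPrime M ⧸ I.restrictScalars k) :=
    (Submodule.Quotient.restrictScalarsEquiv k I).symm
  have e2 : (Localization.AtPrime M ⧸ I.restrictScalars k) ≃ₗ[k]
      (Localization.AtPrime M ⧸ LinearMap.ker Θ) :=
    Submodule.quotEquivOfEq _ _ hker.symm
  have e3 : (Localization.AtPrime M ⧸ LinearMap.ker Θ) ≃ₗ[k] LinearMap.range Θ :=
    Θ.quotKerEquivRange
  have hfr : Module.finrank k (Localization.AtPrime M ⧸ I) =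
      ∑ Q ∈ S₀, (Q.ord G).toNat := by
    rw [(e1.trans (e2.trans e3)).finrank_eq, hrange]
    exact Module.finrank_eq_of_rank_eq hB
  rw [hfr]
  -- the intersection multiplicity
  have hset : {Q : Place k K | SameImage ![(1 : K), x, y] P Q} = ↑S₀ := by
    ext Q
    rw [Set.mem_setOf_eq, Finset.mem_coe, hS₀, sameImage_plane_iff x y c P Q hc]
  rw [hset, finsum_mem_coe_finset, ← hGdef]
  push_cast
  refine Finset.sum_congr rfl fun Q hQ => ?_
  exact (Int.toNat_of_nonneg ((val_le_one_iff_ord_nonneg Q hG).mp (hGS Q hQ))).symm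

end Groth.Agent.Lib.Helper18.IM
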