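import Groth.Agent.Lib.Helper18.IM.ValIdeal
import Groth.Agent.Lib.Helper18.FF.PlaneDegree
import Groth.Agent.Lib.Helper18.FF.PlaneSetup2
import Groth.Agent.Lib.Helper18.FF.ProjMap

/-! # The local ring of a plane curve at a finite point (helper18) -/

set_option autoImplicit false
set_option linter.style.haveILetI false

namespace Groth.Agent.Lib.Helper18.IM

open FunFld WithZero Groth.Agent.Lib.Helper18.FF MvPolynomial

universe u v

variable {k : Type u} {K : Type v} [Field k] [Field K] [Algebra k K]

/-- The maximal ideal of a point is the kernel of evaluation at it. -/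
theorem mem_pointIdeal_iff (c : Fin 2 → k) (M : Ideal (MvPolynomial (Fin 2) k)) [M.IsMaximal]
    (hM : M = Ideal.span {X 0 - C (c 0), X 1 - C (c 1)}) (s : MvPolynomial (Fin 2) k) :
    s ∈ M ↔ eval c s = 0 := by
  have hle : M ≤ RingHom.ker (eval c) := by
    rw [hM, Ideal.span_le]
    rintro _ (rfl | rfl)
    · simp [RingHom.mem_ker]
    · simp [RingHom.mem_ker]
  have hne : RingHom.ker (eval c) ≠ ⊤ := RingHom.ker_ne_top _
  have heq : M = RingHom.ker (eval c) := Ideal.IsMaximal.eq_of_le inferInstance hne hle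
  rw [heq, RingHom.mem_ker]

section Val

variable {x y : K} {c : Fin 2 → k} (Q : Place k K)

theorem val_coord_le_one (hQ : ∀ i, Q.1 (![x, y] i - algebraMap k K (c i)) < 1) (i : Fin 2) :
    Q.1 (![x, y] i) ≤ 1 := by
  have : ![x, y] i = (![x, y] i - algebraMap k K (c i)) + algebraMap k K (c i) := by ring
  rw [this]
  exact (Valuation.map_add _ _ _).trans (max_le (hQ i).le (val_algebraMap_le Q (c i)))

theorem val_aeval_le_one (hQ : ∀ i, Q.1 (![x, y] i - algebraMap k K (c i)) < 1)
    (s : MvPolynomial (Fin 2) k) : Q.1 (aeval ![x, y] s) ≤ 1 := by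
  induction s using MvPolynomial.induction_on with
  | C a =>
    rw [aeval_C]
    exact val_algebraMap_le Q a
  | add p q hp hq =>
    rw [map_add]
    exact (Valuation.map_add _ _ _).trans (max_le hp hq)
  | mul_X p i hp =>
    rw [map_mul, aeval_X, map_mul]
    exact mul_le_one' hp (val_coord_le_one Q hQ i)

theorem val_aeval_sub_lt_one (hQ : ∀ i, Q.1 (![x, y] i - algebraMap k K (c i)) < 1)
    (s : MvPolynomial (Fin 2) k) :
    Q.1 (aeval ![x, y] s - algebraMap k K (eval c s)) < 1 := by
  induction s using MvPolynomial.induction_on with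
  | C a =>
    rw [aeval_C, eval_C, sub_self, map_zero]
    exact zero_lt_one
  | add p q hp hq =>
    have : aeval ![x, y] (p + q) - algebraMap k K (eval c (p + q)) =
        (aeval ![x, y] p - algebraMap k K (eval c p)) +
          (aeval ![x, y] q - algebraMap k K (eval c q)) := by
      rw [map_add, map_add, map_add]
      ring
    rw [this]
    exact Valuation.map_add_lt _ hp hq
  | mul_X p i hp =>
    have : aeval ![x, y] (p * X i) - algebraMap k K (eval c (p * X i)) =
        aeval ![x, y] p * (![x, y] i - algebraMap k K (c i)) +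
          (aeval ![x, y] p - algebraMap k K (eval c p)) * algebraMap k K (c i) := by
      rw [map_mul, map_mul, aeval_X, eval_X, map_mul]
      ring
    rw [this]
    refine Valuation.map_add_lt _ ?_ ?_
    · rw [map_mul]
      calc Q.1 (aeval ![x, y] p) * Q.1 (![x, y] i - algebraMap k K (c i))
          ≤ 1 * Q.1 (![x, y] i - algebraMap k K (c i)) :=
            mul_le_mul' (val_aeval_le_one Q hQ p) le_rfl
        _ < 1 := by rw [one_mul]; exact hQ i
    · rw [map_mul]
      calc Q.1 (aeval ![x, y] p - algebraMap k K (eval c p)) * Q.1 (algebraMap k K (c i))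
          ≤ Q.1 (aeval ![x, y] p - algebraMap k K (eval c p)) * 1 :=
            mul_le_mul' le_rfl (val_algebraMap_le Q (c i))
        _ < 1 := by rw [mul_one]; exact hp

theorem val_aeval_eq_one (hQ : ∀ i, Q.1 (![x, y] i - algebraMap k K (c i)) < 1)
    {s : MvPolynomial (Fin 2) k} (hs : eval c s ≠ 0) : Q.1 (aeval ![x, y] s) = 1 := by
  have h1 := val_aeval_sub_lt_one Q hQ s
  have : aeval ![x, y] s = (aeval ![x, y] s - algebraMap k K (eval c s)) +
      algebraMap k K (eval c s) := by ring
  rw [this, Valuation.map_add_eq_of_lt_right _ (by rw [val_algebraMap Q hs]; exact h1),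
    val_algebraMap Q hs]

theorem val_aeval_lt_one (hQ : ∀ i, Q.1 (![x, y] i - algebraMap k K (c i)) < 1)
    {s : MvPolynomial (Fin 2) k} (hs : eval c s = 0) : Q.1 (aeval ![x, y] s) < 1 := by
  have h1 := val_aeval_sub_lt_one Q hQ s
  rwa [hs, map_zero, sub_zero] at h1

theorem eval_ne_zero_of_val_eq_one (hQ : ∀ i, Q.1 (![x, y] i - algebraMap k K (c i)) < 1)
    {s : MvPolynomial (Fin 2) k} (hs : Q.1 (aeval ![x, y] s) = 1) : eval c s ≠ 0 := by
  intro h0
  have := val_aeval_lt_one Q hQ h0
  rw [hs] at this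
  exact lt_irrefl _ this

end Val

/-- The fibre of the plane map over a finite point. -/
theorem sameImage_plane_iff (x y : K) (c : Fin 2 → k) (P Q : Place k K)
    (hP : ∀ i, P.1 (![x, y] i - algebraMap k K (c i)) < 1) :
    SameImage ![(1 : K), x, y] P Q ↔ ∀ i, Q.1 (![x, y] i - algebraMap k K (c i)) < 1 := by
  have hlt_iff : ∀ (R : Place k K) (u : K) (d : k), R.1 (u - algebraMap k K d) < 1 →
      (R.1 u < 1 ↔ d = 0) := by
    intro R u d h
    constructor
    · intro hu
      by_contra hd
      have h1 := val_algebraMap R hd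
      have h2 : algebraMap k K d = u - (u - algebraMap k K d) := by ring
      rw [h2] at h1
      have h3 : R.1 (u - (u - algebraMap k K d)) < 1 :=
        lt_of_le_of_lt (Valuation.map_sub _ _ _) (max_lt hu h)
      rw [h1] at h3
      exact lt_irrefl _ h3
    · rintro rfl
      rwa [map_zero, sub_zero] at h
  have h0max : ∀ (R : Place k K), (∀ i, R.1 (![x, y] i - algebraMap k K (c i)) < 1) →
      ∀ i, R.1 (![(1 : K), x, y] i) ≤ R.1 (![(1 : K), x, y] 0) := by
    intro R hR i
    show R.1 (![(1 : K), x, y] i) ≤ R.1 (1 : K)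
    rw [map_one]
    fin_cases i
    · show R.1 (1 : K) ≤ 1
      rw [map_one]
    · exact val_coord_le_one R hR 0
    · exact val_coord_le_one R hR 1
  constructor
  · rintro ⟨j, hj0, hjP, hjQ, hconst⟩ i
    -- `z = coordinate - constant` lies in the local ring at `P`
    have hz : InLocRing ![(1 : K), x, y] P (![x, y] i - algebraMap k K (c i)) := by
      refine ⟨0, one_ne_zero, h0max P hP, ![x, y] i - algebraMap k K (c i), ?_, 1,
        Subalgebra.one_mem _, map_one _, mul_one _⟩
      refine Subalgebra.sub_mem _ (Algebra.subset_adjoin ?_) (Subalgebra.algebraMap_mem _ _)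
      fin_cases i
      · exact ⟨1, by simp⟩
      · exact ⟨2, by simp⟩
    obtain ⟨u, hu, w, hw, hwP, hzw⟩ := inLocRing_index ![(1 : K), x, y] P hz j hj0 hjP
    have hgen : ∀ a ∈ Set.range (fun i => ![(1 : K), x, y] i / ![(1 : K), x, y] j), ∃ d : k,
        P.1 (a - algebraMap k K d) < 1 ∧ Q.1 (a - algebraMap k K d) < 1 := by
      rintro _ ⟨i, rfl⟩
      exact hconst i
    obtain ⟨cu, hcuP, hcuQ⟩ := exists_common_const_of_mem_adjoin P Q _ hgen hu
    obtain ⟨cw, hcwP, hcwQ⟩ := exists_common_const_of_mem_adjoin P Q _ hgen hw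
    have hcw0 : cw ≠ 0 := by
      intro h
      have := (hlt_iff P w cw hcwP).mpr h
      rw [hwP] at this
      exact lt_irrefl _ this
    have hwQ : Q.1 w = 1 := by
      have hle : Q.1 w ≤ 1 := val_le_one_of_mem_adjoin ![(1 : K), x, y] Q j hj0 hjQ hw
      refine le_antisymm hle (not_lt.mp fun hlt => hcw0 ((hlt_iff Q w cw hcwQ).mp hlt))
    have hzQ : Q.1 (![x, y] i - algebraMap k K (c i)) = Q.1 u := by
      rw [← hzw, map_mul, hwQ, mul_one]
    have hzP : P.1 (![x, y] i - algebraMap k K (c i)) = P.1 u := by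
      rw [← hzw, map_mul, hwP, mul_one]
    rw [hzQ, hlt_iff Q u cu hcuQ, ← hlt_iff P u cu hcuP, ← hzP]
    exact hP i
  · intro hQ
    refine ⟨0, one_ne_zero, h0max P hP, h0max Q hQ, fun i => ?_⟩
    fin_cases i
    · refine ⟨1, ?_, ?_⟩ <;> simp
    · refine ⟨c 0, ?_, ?_⟩
      · simpa using hP 0
      · simpa using hQ 0
    · refine ⟨c 1, ?_, ?_⟩
      · simpa using hP 1
      · simpa using hQ 1

/-- The fibre over a finite point is finite. -/
theorem finite_fibre (hK : IsFunctionField k K) (x y : K)
    (hxy : IntermediateField.adjoin k ({x, y} : Set K) = ⊤) (c : Fin 2 → k) :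
    {Q : Place k K | ∀ i, Q.1 (![x, y] i - algebraMap k K (c i)) < 1}.Finite := by
  have hne : ∃ i, ![x, y] i - algebraMap k K (c i) ≠ 0 := by
    by_contra hcon
    push Not at hcon
    obtain ⟨t, ht, -⟩ := hK.1
    have hmem : t ∈ IntermediateField.adjoin k ({x, y} : Set K) := by
      rw [hxy]
      trivial
    have hbot : IntermediateField.adjoin k ({x, y} : Set K) = ⊥ := by
      rw [IntermediateField.adjoin_eq_bot_iff]
      rintro z (rfl | rfl)
      · have := hcon 0
        rw [sub_eq_zero] at this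
        exact ⟨c 0, this.symm⟩
      · have := hcon 1
        rw [sub_eq_zero] at this
        exact ⟨c 1, this.symm⟩
    rw [hbot, IntermediateField.mem_bot] at hmem
    obtain ⟨a, rfl⟩ := hmem
    exact ht (isAlgebraic_algebraMap a)
  obtain ⟨i, hi⟩ := hne
  refine (finite_val_ne_one hK hi).subset ?_
  intro Q hQ
  exact (hQ i).ne

/-- The kernel of evaluation at the generators of a plane model. -/
theorem dvd_of_aeval_eq_zero [IsAlgClosed k] (hK : IsFunctionField k K) (x y : K)
    (hxy : IntermediateField.adjoin k ({x, y} : Set K) = ⊤) {f : MvPolynomial (Fin 2) k}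
    (hf : Irreducible f) (hfxy : aeval ![x, y] f = 0) {g : MvPolynomial (Fin 2) k}
    (hg : aeval ![x, y] g = 0) : f ∣ g := by
  classical
  haveI : Infinite k := IsAlgClosed.instInfinite
  obtain ⟨c, -, hc⟩ := plane_exists_generic_avoiding hK x y ∅
  obtain ⟨u, N, hu, -, hut, -, -, -, -, -⟩ := plane_setup_of hK x y hxy c hc
  have hux : u - c • y = x := by rw [hu]; ring
  have h1 : aeval ![u, y] (shear c f) = 0 := by rw [aeval_shear, hux]; exact hfxy
  have h2 : aeval ![u, y] (shear c g) = 0 := by rw [aeval_shear, hux]; exact hg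
  obtain ⟨h, hh⟩ := (bivariate_gauss hut (irreducible_shear c hf) h1).1 _ h2
  refine ⟨shear (-c) h, ?_⟩
  rw [← shear_shear c g, hh, map_mul, shear_shear]

end Groth.Agent.Lib.Helper18.IM
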