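import Groth.Agent.Lib.Helper18.IM.LinAlg
import Groth.Agent.Lib.Helper18.FF.Approx2
import Groth.Agent.Lib.Helper18.FF.RatPlaces2
import Groth.Agent.Lib.Helper18.FF.Weights

/-! # Ideals of the semilocal ring of a finite set of places cut out by orders (helper18) -/

set_option autoImplicit false
set_option linter.style.haveILetI false

namespace Groth.Agent.Lib.Helper18.IM

open FunFld WithZero Groth.Agent.Lib.Helper18.FF Cardinal

universe u v

variable {k : Type u} {K : Type v} [Field k] [Field K] [Algebra k K]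

/-- The functions of order at least `n Q` at each place `Q` of `S`. -/
def valIdeal (S : Finset (Place k K)) (n : Place k K → ℕ) : Submodule k K where
  carrier := {z | ∀ Q ∈ S, Q.1 z ≤ exp (-(n Q : ℤ))}
  add_mem' := fun ha hb Q hQ => (Valuation.map_add _ _ _).trans (max_le (ha Q hQ) (hb Q hQ))
  zero_mem' := fun Q _ => by rw [map_zero]; exact zero_le'
  smul_mem' := fun c z hz Q hQ => by
    rw [Algebra.smul_def, map_mul]
    calc Q.1 (algebraMap k K c) * Q.1 z ≤ 1 * exp (-(n Q : ℤ)) :=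
          mul_le_mul' (val_algebraMap_le Q c) (hz Q hQ)
      _ = exp (-(n Q : ℤ)) := one_mul _

theorem mem_valIdeal {S : Finset (Place k K)} {n : Place k K → ℕ} {z : K} :
    z ∈ valIdeal S n ↔ ∀ Q ∈ S, Q.1 z ≤ exp (-(n Q : ℤ)) := Iff.rfl

theorem valIdeal_mono {S : Finset (Place k K)} {n n' : Place k K → ℕ}
    (h : ∀ Q ∈ S, n Q ≤ n' Q) : valIdeal S n' ≤ valIdeal S n := by
  intro z hz Q hQ
  refine (hz Q hQ).trans ?_
  rw [exp_le_exp]
  have := h Q hQ
  omega

theorem valIdeal_congr {S : Finset (Place k K)} {n n' : Place k K → ℕ}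
    (h : ∀ Q ∈ S, n Q = n' Q) : valIdeal S n = valIdeal S n' :=
  le_antisymm (valIdeal_mono fun Q hQ => (h Q hQ).ge) (valIdeal_mono fun Q hQ => (h Q hQ).le)

/-- One step of the filtration has dimension one. -/
theorem rank_valIdeal_step [IsAlgClosed k] [DecidableEq (Place k K)] (hK : IsFunctionField k K)
    (S : Finset (Place k K))
    (n : Place k K → ℕ) {Q₀ : Place k K} (hQ₀ : Q₀ ∈ S) :
    Module.rank k ↥((valIdeal S n).map
      (valIdeal S (Function.update n Q₀ (n Q₀ + 1))).mkQ) = 1 := by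
  classical
  obtain ⟨z₀, hz₀⟩ := exists_approx_eq S (fun _ => (0 : K)) (fun Q => -(n Q : ℤ))
  simp only [sub_zero] at hz₀
  have hz₀mem : z₀ ∈ valIdeal S n := fun Q hQ => (hz₀ Q hQ).le
  have hz₀not : z₀ ∉ valIdeal S (Function.update n Q₀ (n Q₀ + 1)) := by
    intro h
    have h1 := h Q₀ hQ₀
    rw [hz₀ Q₀ hQ₀, Function.update_self, exp_le_exp] at h1
    push_cast at h1
    omega
  have hz₀0 : z₀ ≠ 0 := by
    rintro rfl
    exact hz₀not (Submodule.zero_mem _)
  rw [rank_submodule_eq_one_iff]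
  refine ⟨(valIdeal S (Function.update n Q₀ (n Q₀ + 1))).mkQ z₀, ⟨z₀, hz₀mem, rfl⟩, ?_, ?_⟩
  · intro h
    exact hz₀not ((Submodule.Quotient.mk_eq_zero _).mp h)
  · rintro _ ⟨z, hz, rfl⟩
    have hw : Q₀.1 (z / z₀) ≤ 1 := by
      rw [map_div₀, hz₀ Q₀ hQ₀]
      exact (div_le_one₀ exp_pos).mpr (hz Q₀ hQ₀)
    obtain ⟨a, ha⟩ := exists_const_sub_lt_one hK (deg_eq_one_of_isAlgClosed hK Q₀) hw
    rw [Submodule.mem_span_singleton]
    refine ⟨a, ?_⟩
    rw [← map_smul, eq_comm]
    show Submodule.Quotient.mk z = Submodule.Quotient.mk (a • z₀)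
    rw [Submodule.Quotient.eq]
    intro Q hQ
    by_cases hQQ : Q = Q₀
    · subst hQQ
      rw [Function.update_self]
      have h1 : z - a • z₀ = z₀ * (z / z₀ - algebraMap k K a) := by
        rw [Algebra.smul_def]
        field_simp
      rw [h1, map_mul, hz₀ Q hQ]
      have h2 := (zm0_lt_one_iff _).mp ha
      calc exp (-(n Q : ℤ)) * Q.1 (z / z₀ - algebraMap k K a)
          ≤ exp (-(n Q : ℤ)) * exp (-1 : ℤ) := mul_le_mul' le_rfl h2
        _ = exp (-((n Q + 1 : ℕ) : ℤ)) := by
            rw [← exp_add]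
            congr 1
            push_cast
            ring
    · rw [Function.update_of_ne hQQ]
      refine (Valuation.map_sub _ _ _).trans (max_le (hz Q hQ) ?_)
      exact (valIdeal S n).smul_mem a hz₀mem Q hQ

/-- The codimension of an order ideal in the semilocal ring is the total order. -/
theorem rank_valIdeal [IsAlgClosed k] (hK : IsFunctionField k K) (S : Finset (Place k K))
    (n : Place k K → ℕ) :
    Module.rank k ↥((valIdeal S (fun _ => 0)).map (valIdeal S n).mkQ) =
      ((∑ Q ∈ S, n Q : ℕ) : Cardinal) := by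
  classical
  obtain ⟨N, hN⟩ : ∃ N, ∑ Q ∈ S, n Q = N := ⟨_, rfl⟩
  induction N generalizing n with
  | zero =>
    have h0 : ∀ Q ∈ S, n Q = 0 := fun Q hQ => (Finset.sum_eq_zero_iff.mp hN) Q hQ
    have : valIdeal S n = valIdeal S (fun _ => 0) := valIdeal_congr h0
    rw [hN, this, Submodule.mkQ_map_self]
    simp
  | succ N ih =>
    obtain ⟨Q₀, hQ₀, hpos⟩ : ∃ Q₀ ∈ S, 0 < n Q₀ := by
      by_contra hcon
      push Not at hcon
      have : ∑ Q ∈ S, n Q = 0 := Finset.sum_eq_zero fun Q hQ => Nat.le_zero.mp (hcon Q hQ)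
      omega
    obtain ⟨n', hn'⟩ : ∃ n' : Place k K → ℕ, n' = Function.update n Q₀ (n Q₀ - 1) := ⟨_, rfl⟩
    have hn : n = Function.update n' Q₀ (n' Q₀ + 1) := by
      rw [hn', Function.update_self, Function.update_idem, Nat.sub_add_cancel hpos,
        Function.update_eq_self]
    have hsum : ∑ Q ∈ S, n' Q = N := by
      have h1 : ∑ Q ∈ S, n Q = ∑ Q ∈ S, n' Q + 1 := by
        rw [← Finset.add_sum_erase S n hQ₀, ← Finset.add_sum_erase S n' hQ₀]
        have h2 : ∑ Q ∈ S.erase Q₀, n Q = ∑ Q ∈ S.erase Q₀, n' Q := by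
          refine Finset.sum_congr rfl fun Q hQ => ?_
          rw [hn', Function.update_of_ne (Finset.ne_of_mem_erase hQ)]
        rw [h2, hn', Function.update_self]
        omega
      omega
    have hle1 : valIdeal S n ≤ valIdeal S n' := by
      refine valIdeal_mono fun Q hQ => ?_
      rw [hn']
      by_cases hQQ : Q = Q₀
      · subst hQQ
        rw [Function.update_self]
        omega
      · rw [Function.update_of_ne hQQ]
    have hle2 : valIdeal S n' ≤ valIdeal S (fun _ => 0) := valIdeal_mono fun Q _ => Nat.zero_le _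
    have h1 := rank_map_mkQ_add (valIdeal S n) (valIdeal S n') (valIdeal S (fun _ => 0)) hle1 hle2
    have h2 := rank_valIdeal_step hK S n' hQ₀
    rw [← hn] at h2
    rw [h1, ih n' hsum, h2, hN, hsum]
    push_cast
    rfl

end Groth.Agent.Lib.Helper18.IM
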